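import Cfsg.Agent.An.K5b
import Cfsg.Agent.An.A
import Cfsg.Agent.Am.R2

/-! Fixed vectors of elements of order five on the adjoint module of `²E₆(2)`. -/

set_option autoImplicit false
set_option synthInstance.maxSize 1024

namespace CF.An

open CF.Chev CF.BN CF.ExA CF.E83 CF.Al CF.Am Cfsg.Lie Function Module Matrix Sum Finset
open CF.Ev (Dm)
open CF.Am.X3 (Ad)
open Cfsg.Agent.S2227 (l5 x5)

namespace K5

section
variable {K : Type*} [Field K] {G : Type*} [Group G] {ρ : StRep cE6 K G}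
  {f : G →* GL (Fin 6 ⊕ Fin 72) K} (hf : ρ.IsAdHom f)
include hf

theorem dual (h3 : (3 : K) ≠ 0) (hG : ρ.Gp = ⊤) {A : Type*} [Group A] {l : A →* End K (LA K)}
    (hl : ∀ a, ∃ g, l a = Ad f g) (h : Cx l ≠ ⊤) : Al.Fx l ≠ ⊥ := fun k => h (by
  obtain ⟨κ, hκ⟩ : ∃ κ, κ = (kap cE6 fun _ => 1).map (Int.castRingHom K) := ⟨_, rfl⟩
  have nd : ∀ v : LA K, (∀ u, u ⬝ᵥ κ *ᵥ v = 0) → v = 0 := fun v h => by
    have := R2.cz (v := v) ⟨fun s => by
      have := h (ev _ K (cE6.neg s))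
      rw [hκ, kap_ev, cE6.neg_neg] at this
      simpa using this, fun j => by
        have s : ∀ i, cE6.car i j = cE6.car j i := by simp only [carE6']; revert j; decide
        simpa [hκ, dotProduct, LieBasis.bv_apply, mulVec, kap, s, mul_comm] using
          h (LieBasis.bv K (inl j))⟩
    exact this.2 ((mul_eq_zero.1 this.1).resolve_left h3)
  let B : LA K →ₗ[K] Dual K (LA K) := (dotProductBilin K K).flip ∘ₗ κ.mulVecLin
  have hB : Surjective B := (LinearMap.injective_iff_surjective_of_finrank_eq_finrank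
    Subspace.dual_finrank_eq.symm).1 ((injective_iff_map_eq_zero _).2 fun v e =>
      nd v fun u => LinearMap.congr_fun e u)
  refine Submodule.dualAnnihilator_eq_bot_iff.1 (eq_bot_iff.2 fun ψ hψ => ?_)
  obtain ⟨v, rfl⟩ := hB ψ
  rw [show v = 0 from k.le (mem_Fx.2 fun a => sub_eq_zero.1 (nd _ fun u => ?_))]
  · simp
  obtain ⟨g, hg⟩ := hl a
  have h1 : (l a (l a⁻¹ u) - l a⁻¹ u) ⬝ᵥ κ *ᵥ v = 0 :=
    (Submodule.mem_dualAnnihilator _).1 hψ _ (sub_mem_Cx a _)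
  have h2 := kap_inv (C := cE6) (ℓ := fun _ => 1) (L := cE6.len (0 : Fin 72)) goodE6.conn
    (fun r => (one_mul _).trans (sameLenE6 r (0 : Fin 72))) hf (g := g) (hG ▸ Subgroup.mem_top _) (l a⁻¹ u) v
  have h4 : l a (l a⁻¹ u) = u := by rw [← End.mul_apply, ← map_mul]; simp
  rw [← hκ, show ∀ v, (f g).val *ᵥ v = l a v from fun v => by rw [hg, en_apply]; rfl,
    show ∀ v, (f g).val *ᵥ v = l a v from fun v => by rw [hg, en_apply]; rfl, h4] at h2
  rw [h4, sub_dotProduct, sub_eq_zero] at h1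
  rw [mulVec_sub, dotProduct_sub, h2, h1, sub_self])

variable [CharP K 2]

theorem nw_bv (l : List (Fin 6)) (s : Fin 72) :
    (f (ρ.nw l)).val *ᵥ LieBasis.bv K (inr s) = LieBasis.bv K (inr (cE6.wp l s)) := by
  induction l with
  | nil => simp
  | cons i l ih =>
    rw [ρ.nw_cons, map_mul, Units.val_mul, ← mulVec_mulVec, ih, ← ρ.map_n f, hf.map_eq,
      PreSt.val_adPre_n, cE6.nM_one_root, cE6.refl_simple, ← cE6.val_etaU,
      show cE6.etaU K _ _ = 1 from (cE6.etaU_eq _ _).elim id fun e => e.trans (neg_units_two 1)]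
    simp

theorem exists_φ (hG : ρ.Gp = ⊤) {F : G →* G} {l : List (Fin 6)}
    (hF : ∀ r t, F (ρ.x r t) = ρ.x (cE6.wp l (cE6.neg r)) (t ^ 2)) : ∃ φ : LA K →+ LA K,
      (∀ (a : K) v, φ (a • v) = a ^ 2 ^ 1 • φ v) ∧ Injective φ ∧
      (∀ g v, φ (Ad f g v) = Ad f (F g) (φ v)) ∧
      ∀ v r, φ v (inr (cE6.wp l (cE6.neg r))) = v (inr r) ^ 2 := by
  have e0 : ∀ g v, Ad f g v = (f g).val *ᵥ v := fun g v => en_apply _ _ _
  refine ⟨((f (ρ.nw l)).val * cE6.Om K).mulVecLin.toAddMonoidHom.comp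
    ((frobenius K 2).toAddMonoidHom.compLeft _), fun a v => ?_, fun u v e => ?_, fun g => ?_,
    fun v r => ?_⟩
  · change _ *ᵥ (frobenius K 2 ∘ (a • v)) = _ • _ *ᵥ (frobenius K 2 ∘ v)
    rw [← mulVec_smul]
    congr 1
    funext c
    simp [frobenius_def, mul_pow]
  · have := congrArg ((cE6.Om K * (f (ρ.nw l))⁻¹.val) *ᵥ ·) e
    change _ *ᵥ _ *ᵥ (frobenius K 2 ∘ u) = _ *ᵥ _ *ᵥ (frobenius K 2 ∘ v) at this
    simp only [mulVec_mulVec, Matrix.mul_assoc, Units.inv_mul_cancel_left, cE6.Om_mul_Om, one_mulVec] at this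
    exact funext fun c => (frobenius K 2).injective (congrFun this c)
  · refine ρ.U_induction (p := fun g => ∀ v, _ *ᵥ (frobenius K 2 ∘ Ad f g v) =
      Ad f (F g) (((f (ρ.nw l)).val * cE6.Om K) *ᵥ (frobenius K 2 ∘ v))) (by simp)
      (fun g r t _ _ ih v => ?_) (show g ∈ ρ.Gp from hG ▸ Subgroup.mem_top _)
    rw [map_mul, End.mul_apply, ih, map_mul, map_mul, End.mul_apply, hF, ← nw_conj, e0 (ρ.x r t), hf,
      LieBasis.val_xG, show ∀ v, ⇑(frobenius K 2) ∘ (cE6.X r t *ᵥ v) =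
        cE6.X r (t ^ 2) *ᵥ (frobenius K 2 ∘ v) from fun v =>
        funext fun a => by rw [← frobenius_def, ← cE6.X_map']; exact (frobenius K 2).map_mulVec _ _ a,
      e0 (_ * _)]
    simp only [mulVec_mulVec, map_mul, map_inv, Units.val_mul, Matrix.mul_assoc, hf _ _,
      Units.inv_mul_cancel_left, LieBasis.val_xG, cE6.Om_mul_X, CharTwo.neg_eq]
  · change (_ *ᵥ (frobenius K 2 ∘ v)) _ = _
    have h1 : ∀ a s, (f (ρ.nw l)).val a (inr s) = if a = inr (cE6.wp l s) then 1 else 0 := fun a s => by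
      rw [← LieBasis.mulVec_bv_apply K (f (ρ.nw l)).val, nw_bv hf]; simp [LieBasis.bv_apply]
    rw [← mulVec_mulVec]
    simp [mulVec, dotProduct, h1, (StRep.nW_nw l).ad_inl hf, LieBasis.Om, frobenius_def,
      cE6.neg_injective.eq_iff, CharTwo.neg_eq]

end

theorem core {X : Type*} [Group X] [Finite X] [IsSimpleGroup X] (E : EF cE6 (cE6.wp l5) X)
    {f : E.G →* GL (Fin 6 ⊕ Fin 72) E.K} (hf : E.ρ.IsAdHom f) {l : X →* End E.K (LA E.K)} {y : E.G}
    (hl : ∀ g : BN.Fx E.F, l (E.θ g) = Ad f (y⁻¹ * g * y)) (h0 : Al.Fx l = ⊥) {H : Subgroup X}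
    {A : Type*} [Group A] {j : A →* X} (M : Mx H j) (hX : ∃ a b : X, a * b ≠ b * a)
    (h : Al.Fx (l.comp j) ≠ ⊥) {x : A} (e : x ^ 5 = 1) (n1 : x ≠ 1) :
    11 ≤ Nat.card ↥(H ⊓ Subgroup.centralizer {j x}) := by
  have e0 : ∀ g v, Ad f g v = (f g).val *ᵥ v := fun g v => en_apply _ _ _
  have e1 : ∀ a b v, Ad f a (Ad f b v) = Ad f (a * b) v := fun a b v => by rw [map_mul]; rfl
  have e2 : ∀ a, Injective (Ad f a) := fun a u v e => by
    have := congrArg (Ad f a⁻¹) e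
    rwa [e1, e1, inv_mul_cancel, map_one] at this
  obtain ⟨Φ, p1, p2, p3, p4⟩ := exists_φ hf E.h.top E.F_x
  let Ψ : LA E.K →+ LA E.K := (Ad f y⁻¹).toAddMonoidHom.comp (Φ.comp (Ad f y).toAddMonoidHom)
  have p5 : ∀ v, Ψ v = Ad f y⁻¹ (Φ (Ad f y v)) := fun _ => rfl
  have p6 : ∀ a v, Ψ (l a v) = l a (Ψ v) := fun a v => by
    obtain ⟨g, rfl⟩ := E.surj a
    rw [hl, p5, p5, e1, e1, mul_assoc, mul_inv_cancel_left, ← e1, p3, e1, show E.F g = g from g.2,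
      mul_assoc, mul_inv_cancel_right]
  obtain ⟨u, u1, u2, u3⟩ := G2.exists_fix (p := 2) one_pos Ψ (fun a v => by simp [p5, p1])
    (fun a b e => e2 _ (p2 (e2 _ e)))
    (U := Al.Fx (l.comp j)) (fun v hv => mem_Fx.2 fun a => (p6 _ v).symm.trans
      (congrArg Ψ (mem_Fx.1 hv a))) h
  obtain ⟨v, v1, v2, v3⟩ := Ln.key M hX (r := l) (L := Ψ.eqLocus (.id _))
    (fun a v m => (p6 a v).trans (congrArg _ m)) u3 u1 (by rwa [h0])
  obtain ⟨ψ, hψ, HH⟩ := exists_ψ (B := Fin 6) (K := E.K) (p := 2) (m := 5) (by decide)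
  set c : Fin 6 → E.Kˣ := fun i => ψ (x5 i) with hc
  have h1 : E.F (E.tor c) = E.tor c := E.fix_tor.2 (by
    rw [hc, mp_ψ, Mw_wp]; funext i; congr 1; revert i; decide +kernel)
  obtain ⟨t, ht⟩ : ∃ t : BN.Fx E.F, t.1 = E.tor c := ⟨⟨_, h1⟩, rfl⟩
  have o5 : orderOf (j x) = 5 := (orderOf_injective j M.inj x).trans (orderOf_eq_prime e n1)
  obtain ⟨x', hx, h2⟩ := E.exists_rep (m := 5) (k := 3) (L := [[3, 4, 5, 7, 5, 3]]) (by decide) rfl
    (by decide +kernel) hψ HH (g := j x) (by rintro k; simp [k] at o5) (o5 ▸ pow_orderOf_eq_one _)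
  obtain rfl : x' = x5 := List.ofFn_injective (by simpa [x5] using hx)
  obtain ⟨k, hk⟩ := isConj_iff.1 (h2 t ⟨1, one_mem _, by simp [hc, ht]⟩).symm
  obtain ⟨k, rfl⟩ := E.surj k
  have h4 : ∀ r, rv cE6 c r = 1 ↔ cE6.InSub J r := fun r => by
    rw [rv_ψ hψ, pr_vec]
    simp only [tabE6'.A, RootSys.InSub]
    revert r
    decide +kernel
  have h5 : ∀ a b, a ≠ b → cE6.wp l5 (cE6.neg (fr a b)) = fr a b := by
    simp only [Fin.ext_iff (n := 72), tabE6'.wp]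
    decide +kernel
  obtain ⟨N, hN⟩ := Emb.exists_of_diagram (C := cbA 3) (C' := cE6) ![2, 3, 4] (by
    simp only [cbA_car, carE6']; decide)
  have hU : Univ (slRep 3 (ZMod 2)) :=
    ⟨faithful_slRep _ _ (by decide), slRep_Gp _ _, r3_slRep _ _, tor_injective_slRep _ _⟩
  let φ : S4 →* E.G := hU.fa (E.h.r3.pull N) (ZMod.castHom dvd_rfl E.K)
  have h6 : ∀ r : RtA 3, φ ((slRep 3 (ZMod 2)).x r 1) = E.ρ.x (fr r.1.1 r.1.2) 1 := fun r => by
    rw [hU.fa_x, StRep.pull_x, map_one, mul_one, N.val_eU, d5 r (N.f r)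
      ((N.mem_range_iff hN).1 ⟨r, rfl⟩) fun i => by rw [← tabE6'.car, ← hN, N.A_f, cbA_A, cbA_simple]]
    rcases Int.units_eq_one_or (N.ε r) with h | h <;> simp [h, CharTwo.neg_eq]
  have h7 : ∀ g, E.F (φ g) = φ g := DFunLike.congr_fun (StRep.hom_ext (slRep_Gp 3 (ZMod 2))
    (f := E.F.comp φ) (g := φ) fun r t => by
      obtain rfl | rfl : t = 0 ∨ t = 1 := by revert t; decide
      · simp
      · rw [MonoidHom.comp_apply, h6, E.F_x, h5 _ _ r.2, one_pow])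
  have h8 : ∀ g, Commute (φ g) (E.tor c) := fun g =>
    commute_tor_U E.h.r3 (E.ρ.U_mono (fun r => (h4 r).2) (eqv hf h6 g).1)
  have h9 : ∀ w : LA E.K, Ad f (E.tor c) w = w ↔ w ∈ Dm cE6 E.K J {r | cE6.InSub J r} := fun w => by
    rw [e0, CF.Geom.Sm.ad_tor _ hf, LieBasis.val_tG, LieBasis.TM, funext_iff, Sum.forall]
    simp only [mulVec_diagonal]
    refine ⟨fun a => ⟨fun r hr => by_contra fun n0 => hr ((h4 r).1 (Units.ext
      ((mul_left_eq_self₀.1 (a.2 r)).resolve_right n0))), fun _ h k => absurd h k⟩,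
      fun a => ⟨by simp, fun r => ?_⟩⟩
    by_cases k : cE6.InSub J r
    · exact (congrArg (fun t : E.Kˣ => (t : E.K) * _) ((h4 r).2 k)).trans (one_mul _)
    · simp [a.1 r k]
  have q1 : ∀ g : BN.Fx E.F, Ad f g (Ad f (k.1⁻¹ * y) v) = Ad f (k.1⁻¹ * y) v ↔
      l (E.θ (k * g * k⁻¹)) v = v := fun g => by
    rw [hl, ← (e2 (k.1⁻¹ * y)).eq_iff (b := v), e1, e1]
    simp [mul_assoc]
  have q2 : Φ (Ad f (k.1⁻¹ * y) v) = Ad f (k.1⁻¹ * y) v := by
    have : Φ (Ad f y v) = Ad f y v := e2 y⁻¹ (by rw [e1, inv_mul_cancel, map_one]; exact v1)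
    rw [← e1, p3, this, show E.F k.1⁻¹ = k.1⁻¹ from k⁻¹.2]
  have q3 := (h9 _).1 (ht ▸ (q1 t).2 (by
    rw [map_mul E.θ, map_mul E.θ, map_inv, hk]; exact mem_Fx.1 v2 x))
  obtain ⟨s, s1, s2⟩ := three hf h6 q3 fun g a b n => by
    rw [← p4, ← e0, p3, h7, q2, h5 a b n]
  let θ : S4 →* X := (MulAut.conj (E.θ k)).toMonoidHom.comp (E.θ.comp (φ.codRestrict _ h7))
  have q4 : ∀ g, Commute (θ g) (j x) := fun g => hk ▸ (Commute.map (f := E.θ)
    (show Commute (φ.codRestrict _ h7 g) t from Subtype.ext (ht ▸ h8 g :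
      Commute (φ g) t.1).eq)).map (MulAut.conj (E.θ k))
  have q5 : ∀ g (i : ℤ), θ g = j x ^ i → g = 1 := fun g i a => triv hf h6 fun w hw => by
    rw [← hk, conj_zpow, ← map_zpow] at a
    have := X3.ad_cen E.h hf ((E.ker ((φ.codRestrict _ h7 g) * (t ^ i)⁻¹)).1 (by
      rw [map_mul, map_inv, mul_inv_eq_one]; exact (MulAut.conj (E.θ k)).injective a))
    have b : Ad f (E.tor c ^ i) w = w := by
      let S := Sg (Ad f) (E.K ∙ w) ⊤
      exact (S.zpow_mem (x := E.tor c) ⟨fun u hu => by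
        obtain ⟨a, rfl⟩ := Submodule.mem_span_singleton.1 hu
        rw [map_smul, (h9 w).2 hw], fun _ => trivial⟩ i).1 w (Submodule.mem_span_singleton_self w)
    replace this := LinearMap.congr_fun this (Ad f (E.tor c ^ i) w)
    rw [e1, End.one_apply, b, Subgroup.coe_mul, InvMemClass.coe_inv, SubgroupClass.coe_zpow, ht,
      inv_mul_cancel_right, e0] at this
    exact this
  refine le_of_le_of_eq (show 11 ≤ Nat.card (Fin 5 × Fin 3) by simp) rfl |>.trans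
    (Nat.card_le_card_of_injective (fun a => ⟨j x ^ a.1.1 * θ (s a.2), mul_mem (pow_mem (M.le x) _)
      (v3 _ (by simpa [θ] using (q1 (φ.codRestrict _ h7 (s a.2))).1 ((e0 _ _).trans (s2 _)))),
      Subgroup.mem_centralizer_singleton_iff.2 (((Commute.refl _).pow_left _).mul_left (q4 _))⟩)
      fun a b k => ?_)
  replace k : j x ^ a.1.1 * θ (s a.2) = j x ^ b.1.1 * θ (s b.2) := congrArg Subtype.val k
  have := s1 (mul_inv_eq_one.1 (q5 (s a.2 * (s b.2)⁻¹) (-a.1.1 + b.1.1) (by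
    rw [map_mul, map_inv, _root_.zpow_add, _root_.zpow_neg, zpow_natCast, zpow_natCast, mul_inv_eq_iff_eq_mul,
      mul_assoc, ← k, inv_mul_cancel_left])))
  rw [this, mul_left_inj] at k
  exact Prod.ext (Fin.ext (pow_injOn_Iio_orderOf (a.1.2.trans_eq o5.symm) (b.1.2.trans_eq o5.symm) k)) this

end K5

theorem k5 {z : ℕ} {X : Type*} [Group X] [Finite X] [IsSimpleGroup X] {L : LS cE6 pE6 2 2 z X}
    {f : L.G →* GL (Fin 6 ⊕ Fin 72) L.K} {l : X →* End L.K (LA L.K)} {Φ : LA L.K →+ LA L.K}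
    (D : Ld L f l Φ) {H : Subgroup X} {A : Type*} [Group A] {j : A →* X} (M : Mx H j)
    (hX : ∃ a b : X, a * b ≠ b * a) (nw : Nw l j) {y : A} (e : y ^ 5 = 1) (n1 : y ≠ 1) :
    ∃ T ≤ H, (∀ s ∈ T, Commute s (j y)) ∧ ¬ Nat.card T ∣ 10 := by
  have c3 : (3 : L.K) ≠ 0 := fun k => one_ne_zero (α := L.K) (by
    linear_combination k - (CharTwo.two_eq_zero : (2 : L.K) = 0))
  have h1 : ∀ i t, L.T.σ (L.ρ.x (cE6.simple i) t) = L.ρ.x (cE6.simple (pE6 i)) (t ^ 2) :=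
    fun i t => L.φ_eq t ▸ L.gr.σ_pos i t
  have h2 : ∀ i t, L.T.σ (L.ρ.x (cE6.neg (cE6.simple i)) t) =
      L.ρ.x (cE6.neg (cE6.simple (pE6 i))) (t ^ 2) := fun i t => L.φ_eq t ▸ L.gr.σ_neg i t
  have h3 := ext_two (F := (MulAut.conj (L.ρ.nw l0E6)⁻¹).toMonoidHom.comp L.T.σ) (ρ := L.ρ)
    fun i t => by
      simp only [MonoidHom.comp_apply, h1, h2, ← wp_l0E6, ← cE6.neg_aut (cE6.wp_mem_Aut _),
        ← nw_conj, cE6.neg_neg]
      simp [mul_assoc]
  set n := L.ρ.nw l0E6 * (L.ρ.nw l5)⁻¹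
  have hn : n ∈ L.h.Alg 2 := mul_mem (L.h.nw_mem_Alg _) (inv_mem (L.h.nw_mem_Alg _))
  obtain ⟨u, hu⟩ := L.frob.exists_twist L.big hn
  set F := (MulAut.conj n⁻¹).toMonoidHom.comp L.T.σ
  have h4 : ∀ g, g ∈ BN.Fx F ↔ u⁻¹ * g * u ∈ BN.Fx L.T.σ := fun g => by
    rw [hu]
    change n⁻¹ * L.T.σ g * n⁻¹⁻¹ = g ↔ _
    constructor <;> intro e
    · conv_rhs => rw [← e]
      group
    · rw [e]; group
  let i : BN.Fx F →* BN.Fx L.T.σ := (((MulAut.conj u⁻¹).toMonoidHom.comp (BN.Fx F).subtype).codRestrict _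
    fun g => by simpa using (h4 g).1 g.2)
  let E : EF cE6 (cE6.wp l5) X := ⟨L.K, L.G, L.ρ, L.h, L.big, F, L.frob.conj (inv_mem hn),
    cE6.wp_mem_W l5, fun r t => by rw [← nw_conj, ← h3]; simp [F, n, mul_assoc],
    L.θ.comp i, L.surj.comp fun g => ⟨⟨u * g * u⁻¹, (h4 _).2 (by simp [mul_assoc])⟩, by
      ext; simp [i, mul_assoc]⟩, fun g => (L.ker _).trans (by simpa [i] using conj_mem_center),
    fun g hg => (conj_mem_center (y := u)).1 (cent_E6 L.h (σ := L.T.σ)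
      (fun i => by simp [h1]) (fun i => by simp [h2]) fun x hx => by
        simpa [mul_assoc] using (hg (u * x * u⁻¹) ((h4 _).2 (by simpa [mul_assoc]))).map
          (MulAut.conj u⁻¹))⟩
  have := K5.core E D.hf (l := l) (y := u) (fun g => (D.eq _).trans (congrArg _ (by simp [i]))) (D.fx' c3) M hX
    (nw.elim (fun k => by rwa [D.fx' c3] at k) fun k => K5.dual D.hf c3 L.h.top (fun a =>
      (L.surj (j a)).elim fun g e => ⟨g, (congrArg l e).symm.trans (D.eq g)⟩) (by rwa [D.cx] at k)) e n1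
  exact ⟨_, inf_le_left, fun s hs => Subgroup.mem_centralizer_singleton_iff.1 hs.2,
    fun k => by have := Nat.le_of_dvd (by decide) k; omega⟩

end CF.An
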