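import Cfsg.Agent.An.K5a
import Cfsg.Agent.Am.X3
import Cfsg.Agent.S2227
import Cfsg.Agent.Chev.Coord

/-! The subgroup `GL₄(2)` of `²E₆(2)` on the Lie algebra of its Levi subgroup. -/

set_option autoImplicit false
set_option synthInstance.maxSize 1024

namespace CF.An.K5

open CF.Chev CF.BN CF.ExA Cfsg.Lie Function Module Matrix Sum Finset
open CF.Ev (Wc Dm Ort orb_mem Dm_of)
open K5a (M4)

/-- The roots. -/
def fr (a b : Fin 4) : Fin 72 :=
  ![![0, 42, 43, 44], ![29, 0, 39, 40], ![28, 32, 0, 37], ![27, 31, 34, 0]] a b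

/-- The weights of the natural module. -/
def wa (a : Fin 4) (i : Fin 6) : ZMod 2 :=
  ![![0, 0, 1, 0, 0, 0], ![1, 0, 1, 1, 0, 0], ![1, 1, 0, 1, 1, 0], ![1, 1, 0, 0, 1, 1]] a i

/-- The images of the basis vectors. -/
def P0 : Fin 6 ⊕ Fin 72 → M4 := Sum.elim (fun i => diagonal fun a => wa a i)
  fun r => of fun a b => if a ≠ b ∧ r = fr a b then 1 else 0

/-- The nodes. -/
abbrev J : Set (Fin 6) := Set.range ![2, 3, 4]

theorem d0 : ∀ r, cE6.InSub J r ↔ ∃ a b, a ≠ b ∧ r = fr a b := by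
  unfold RootSys.InSub; decide +kernel

theorem d1 : ∀ a b, a ≠ b → ∀ i : Fin 6, (P0 (inl i) + (tabE6.car i (fr a b) : ZMod 2) •
    P0 (inr (fr a b))) * transvection a b 1 = transvection a b 1 * P0 (inl i) := by decide +kernel

theorem d2 : ∀ a b, a ≠ b → P0 (inr (fr a b)) * transvection a b 1 =
    transvection a b 1 * P0 (inr (fr a b)) ∧ fr b a = cE6.neg (fr a b) ∧
    (P0 (inr (fr b a)) + ∑ i : Fin 6, (tabE6.cov (fr a b) i : ZMod 2) • P0 (inl i) +
      P0 (inr (fr a b))) * transvection a b 1 = transvection a b 1 * P0 (inr (fr b a)) := by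
  decide +kernel

theorem d3 : ∀ a b, a ≠ b → ∀ c d, c ≠ d → fr c d = fr a b ∨ fr c d = fr b a ∨
    (∀ u, cE6.vec u ≠ cE6.vec (fr c d) + cE6.vec (fr a b)) ∧
      P0 (inr (fr c d)) * transvection a b 1 = transvection a b 1 * P0 (inr (fr c d)) ∨
    ∃ u, cE6.vec u = cE6.vec (fr c d) + cE6.vec (fr a b) ∧
      (∀ v, cE6.vec v ≠ cE6.vec (fr c d) + (2 : ℤ) • cE6.vec (fr a b)) ∧
      (P0 (inr (fr c d)) + P0 (inr u)) * transvection a b 1 =
        transvection a b 1 * P0 (inr (fr c d)) := by decide +kernel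

theorem d4 : ∀ a b, a ≠ b → P0 (inr (fr a b)) = single a b 1 := by decide +kernel

theorem d5 : ∀ (r : RtA 3) (u : Fin 72), cE6.InSub J u → (∀ i : Fin 3,
    tabE6.car (![2, 3, 4] i : Fin 6) u = ((if r.1.1 = i.castSucc then 1 else 0) -
      if r.1.1 = i.succ then 1 else 0) - ((if r.1.2 = i.castSucc then 1 else 0) -
        if r.1.2 = i.succ then 1 else 0)) → u = fr r.1.1 r.1.2 := by
  unfold RootSys.InSub; decide +kernel

variable {K : Type*} [Field K] [CharP K 2]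

variable (K) in
/-- The scalar extension. -/
noncomputable abbrev ex : M4 →+* Matrix (Fin 4) (Fin 4) K := (ZMod.castHom dvd_rfl K).mapMatrix

variable (K) in
/-- The projection. -/
noncomputable def Pj : (Fin 6 ⊕ Fin 72 → K) →ₗ[K] Matrix (Fin 4) (Fin 4) K :=
  Fintype.linearCombination K fun c => ex K (P0 c)

theorem Pj_bv (c : Fin 6 ⊕ Fin 72) : Pj K (LieBasis.bv K c) = ex K (P0 c) := by
  simp [Pj, LieBasis.bv]

theorem ex_smul (k : ℤ) (m : M4) : ex K ((k : ZMod 2) • m) = (k : K) • ex K m := by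
  rw [Int.cast_smul_eq_zsmul, Int.cast_smul_eq_zsmul, map_zsmul]

theorem Pj_off (v : Fin 6 ⊕ Fin 72 → K) {a b : Fin 4} (h : a ≠ b) : Pj K v a b = v (inr (fr a b)) := by
  simp [Pj, Fintype.linearCombination_apply, Matrix.sum_apply, P0, h, apply_ite]

theorem Pj_diag (v : Fin 6 ⊕ Fin 72 → K) (a : Fin 4) :
    Pj K v a a = ∑ i, v (inl i) * ZMod.cast (wa a i) := by
  simp [Pj, Fintype.linearCombination_apply, Matrix.sum_apply, P0]

theorem Pj_inj {v : Fin 6 ⊕ Fin 72 → K} (hv : v ∈ Wc K J {r | cE6.InSub J r}) (h : Pj K v = 0) :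
    v = 0 := by
  have a0 := hv.1 0 (by decide)
  have a1 := hv.1 1 (by decide)
  have a5 := hv.1 5 (by decide)
  have k := fun a => (Pj_diag v a).symm.trans (congrFun₂ h a a)
  have b0 := k 0
  have b1 := k 1
  have b3 := k 3
  simp [Fin.sum_univ_six, wa, a0, a1, a5] at b0 b1 b3
  rw [b0, zero_add] at b1
  funext c
  rcases c with i | r
  · fin_cases i
    exacts [a0, a1, b0, b1, b3, a5]
  by_cases e : cE6.InSub J r
  · obtain ⟨a, b, h1, rfl⟩ := (d0 r).1 e
    exact (Pj_off v h1).symm.trans (congrFun₂ h a b)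
  · exact hv.2 r e

theorem Pj_X {a b : Fin 4} (h : a ≠ b) {v : Fin 6 ⊕ Fin 72 → K}
    (hv : ∀ r, ¬ cE6.InSub J r → v (inr r) = 0) :
    Pj K (cE6.X (fr a b) 1 *ᵥ v) * ex K (transvection a b 1) = ex K (transvection a b 1) * Pj K v := by
  rw [LieBasis.eq_sum_bv K v, mulVec_sum, map_sum, map_sum, sum_mul, mul_sum]
  refine sum_congr rfl fun c _ => ?_
  rw [mulVec_smul, map_smul, map_smul, smul_mul_assoc, mul_smul_comm, Pj_bv, ← map_mul]
  have n : ∀ x y : Fin 6 ⊕ Fin 72 → K, x - y = x + y := fun x y => funext fun _ => CharTwo.sub_eq_add _ _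
  rcases c with i | r
  · rw [← d1 a b h, LieBasis.X_inl, n, one_mul, ← cE6.A_simple, tabE6'.car]
    simp only [map_add, map_mul, map_smul, Pj_bv, ex_smul]
  by_cases e : cE6.InSub J r
  swap
  · simp [hv r e]
  obtain ⟨c, d, h1, rfl⟩ := (d0 r).1 e
  obtain ⟨k1, k2, k3⟩ := d2 a b h
  by_cases e2 : fr c d = fr b a
  · rw [e2, ← k3, k2, LieBasis.X_neg_root, n, one_pow, one_smul, one_smul, LieBasis.hv_eq_sum]
    simp only [map_add, map_mul, map_smul, map_sum, Pj_bv, ex_smul, tabE6'.cov]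
  rcases d3 a b h c d h1 with k | k | ⟨k, k'⟩ | ⟨u, k, k', k''⟩
  · rw [k, ← k1, LieBasis.X_self, Pj_bv, map_mul]
  · exact absurd k e2
  · rw [← k', LieBasis.X_none _ _ k (k2 ▸ e2), Pj_bv, map_mul]
  · rw [← k'', LieBasis.X_one_step _ _ k k', one_mul,
      cast_eq_one_of_two (cE6.N_long (fun z => (sameLenE6 _ _).le) k), one_smul]
    simp only [map_add, map_mul, Pj_bv]

/-- The group. -/
abbrev S4 := SpecialLinearGroup (Fin 4) (ZMod 2)

variable (K) in
/-- The natural representation. -/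
noncomputable def eg : S4 →* Matrix (Fin 4) (Fin 4) K :=
  (ex K).toMonoidHom.comp SpecialLinearGroup.coeMonoidHom

theorem eg_eq (g : S4) : eg K g = ex K g.1 := rfl

theorem ort : Ort cE6 J {r | cE6.InSub J r} := fun _ h k => absurd h k

variable {G : Type*} [Group G] {ρ : StRep cE6 K G} {f : G →* GL (Fin 6 ⊕ Fin 72) K}
  (hf : ρ.IsAdHom f) {φ : S4 →* G}
  (hφ : ∀ r : RtA 3, φ ((slRep 3 (ZMod 2)).x r 1) = ρ.x (fr r.1.1 r.1.2) 1)
include hf hφ

theorem eqv (g : S4) : φ g ∈ ρ.U {r | cE6.InSub J r} ∧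
    ∀ v ∈ Dm cE6 K J {r | cE6.InSub J r}, Pj K ((f (φ g)).val *ᵥ v) * eg K g = eg K g * Pj K v := by
  refine (slRep 3 (ZMod 2)).U_induction (p := fun g => φ g ∈ ρ.U {r | cE6.InSub J r} ∧
    ∀ v ∈ Dm cE6 K J {r | cE6.InSub J r}, Pj K ((f (φ g)).val *ᵥ v) * eg K g = eg K g * Pj K v)
    (by simp) (fun g r t _ _ ih => ?_) ((slRep_Gp 3 (ZMod 2)).ge (Subgroup.mem_top g))
  obtain rfl | rfl : t = 0 ∨ t = 1 := by revert t; decide
  · simpa using ih
  have m := ρ.x_mem_U (S := {r | cE6.InSub J r}) ((d0 _).2 ⟨_, _, r.2, rfl⟩) 1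
  refine ⟨by rw [map_mul, hφ]; exact mul_mem ih.1 m, fun v hv => ?_⟩
  rw [map_mul, map_mul, Units.val_mul, ← mulVec_mulVec, map_mul, ← mul_assoc, hφ,
    ih.2 _ (Dm_of ort hv (orb_mem hf sameLenE6 ort (Subgroup.mem_sup_left m) hv)), hf,
    LieBasis.val_xG, mul_assoc, mul_assoc]
  exact congrArg _ (Pj_X r.2 hv.1)

theorem fix {g : S4} {v : Fin 6 ⊕ Fin 72 → K}
    (hv : v ∈ Dm cE6 K J {r | cE6.InSub J r}) (h : Commute (eg K g) (Pj K v)) :
    (f (φ g)).val *ᵥ v = v := by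
  refine sub_eq_zero.1 (Pj_inj (orb_mem hf sameLenE6 ort
    (Subgroup.mem_sup_left (eqv hf hφ g).1) hv) ?_)
  have := congrArg (· * eg K g⁻¹) (((eqv hf hφ g).2 v hv).trans h.eq)
  simp only [mul_assoc, ← map_mul, mul_inv_cancel, map_one, mul_one] at this
  rw [map_sub, this, sub_self]

theorem triv {g : S4}
    (h : ∀ v ∈ Dm cE6 K J {r | cE6.InSub J r}, (f (φ g)).val *ᵥ v = v) : g = 1 := by
  obtain ⟨s, hs⟩ := mem_range_scalar_of_commute_single (M := g.1) fun a b e => by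
    have m : LieBasis.bv K (inr (fr a b)) ∈ Dm cE6 K J {r | cE6.InSub J r} :=
      ⟨fun r hr => by simpa [LieBasis.bv_apply] using fun k => hr ((d0 r).2 ⟨a, b, e, k⟩),
        fun _ h k => absurd h k⟩
    have := (eqv hf hφ g).2 _ m
    rw [h _ m, Pj_bv, d4 a b e, eg_eq, ← map_mul, ← map_mul] at this
    exact Matrix.map_injective (ZMod.castHom dvd_rfl K).injective this
  have := g.2
  rw [← hs] at this
  obtain rfl | rfl : s = 0 ∨ s = 1 := by clear hs this; revert s; decide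
  · simp at this
  · exact Subtype.ext (by simpa using hs.symm)

theorem three {v : Fin 6 ⊕ Fin 72 → K} (hv : v ∈ Dm cE6 K J {r | cE6.InSub J r})
    (h : ∀ g a b, a ≠ b → ((f (φ g)).val *ᵥ v) (inr (fr a b)) ^ 2 = ((f (φ g)).val *ᵥ v) (inr (fr a b))) :
    ∃ c : Fin 3 → S4, Injective c ∧ ∀ i, (f (φ (c i))).val *ᵥ v = v := by
  have k : ∀ {x : K}, x ^ 2 = x → ∃ y : ZMod 2, ZMod.castHom dvd_rfl K y = x := fun {x} e =>
    (eq_zero_or_one_of_sq_eq_self e).elim (fun e => ⟨0, by simp [e]⟩) fun e => ⟨1, by simp [e]⟩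
  have h1 : ∀ a b, a ≠ b → Pj K v a b ^ 2 = Pj K v a b := fun a b e => by
    simpa [Pj_off v e] using h 1 a b e
  have h2 : ∀ a b : Fin 4, ∃ y : ZMod 2, ZMod.castHom dvd_rfl K y =
      Pj K v a b - scalar (Fin 4) (Pj K v 0 0) a b := fun a b => by
    by_cases e : a = b
    swap
    · simpa [e] using k (h1 a b e)
    subst e
    by_cases e : a = 0
    · exact ⟨0, by simp [e]⟩
    have h3 := h ((slRep 3 (ZMod 2)).x ⟨(0, a), Ne.symm e⟩ 1) 0 a (Ne.symm e)
    have h4 := Pj_X (Ne.symm e) hv.1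
    rw [transvection, map_add, map_one, show ex K (single 0 a 1) = single 0 a 1 by simp] at h4
    have h5 := congrFun₂ h4 0 0
    have h6 := congrFun₂ h4 0 a
    rw [hφ, hf, LieBasis.val_xG, ← Pj_off (cE6.X _ _ *ᵥ v) (Ne.symm e)] at h3
    simp [mul_add, add_mul, Ne.symm e] at h5 h6
    refine k ?_
    dsimp only at h3
    rw [scalar_apply, diagonal_apply_eq, show Pj K v a a - Pj K v 0 0 = Pj K (cE6.X (fr 0 a) 1 *ᵥ v) 0 a +
      Pj K v a 0 - Pj K v 0 a by linear_combination h5 - h6, sub_pow_char, add_pow_char, h3,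
      h1 0 a (Ne.symm e), h1 a 0 e]
  choose m hm using h2
  obtain ⟨c, h3, h4⟩ := K5a.three (of m)
  refine ⟨c, h3, fun i => fix hf hφ hv ?_⟩
  rw [show Pj K v = ex K (of m) + scalar _ (Pj K v 0 0) from
    sub_eq_iff_eq_add.1 (Matrix.ext fun a b => (hm a b).symm)]
  exact ((h4 i).map (ex K)).add_right (scalar_commute _ (fun _ => .all _ _) _).symm

end CF.An.K5
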