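import Cfsg.Agent.Am.AU
import Cfsg.Agent.Am.C5
import Cfsg.Agent.Am.C6b
import Cfsg.Agent.Am.C72
import Cfsg.Agent.Am.C73a
import Cfsg.Agent.Am.C73b
import Cfsg.Agent.Am.C75
import Cfsg.Agent.Am.C7p
import Cfsg.Agent.Am.C82a
import Cfsg.Agent.Am.C82b
import Cfsg.Agent.Am.C8o
import Cfsg.Agent.Am.C92
import Cfsg.Agent.Am.CG
import Cfsg.Agent.Am.I2
import Cfsg.Agent.Am.NL
import Cfsg.Agent.Am.SP
import Cfsg.Agent.Am.TL
import Cfsg.Agent.An.C7q
import Cfsg.Agent.An.CG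
import Cfsg.Agent.An.K5
import Cfsg.Agent.An.NS
import Cfsg.Agent.An.NW
import Cfsg.Agent.An.P5b
import Cfsg.Agent.An.R1
import Cfsg.Agent.An.R2
import Cfsg.Agent.An.TB
import Cfsg.Agent.An.TU
import Cfsg.Agent.An.V6
import Cfsg.Agent.An.W11
import Cfsg.Agent.An.W7
import Cfsg.Agent.ExA.E6
import Cfsg.Agent.S1066
import Cfsg.Agent.S1070

/-! Alternating subgroups of `²E₆(q)`: assembly. -/

set_option autoImplicit false

namespace CF.An

open Module Function Cfsg Cfsg.Lie CF.E83 CF.Al CF.Al.Ln Submodule CF.Am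

section
variable {K W : Type*} [Field K] [AddCommGroup W] [Module K W] [FiniteDimensional K W]
  {X A : Type*} [Group X] [Finite X] [IsSimpleGroup X] [Group A] {H T : Subgroup X} {j : A →* X}

theorem Nw.mem {l : X →* End K W} (h : Nw l j) (M : Mx H j) (hX : ∃ a b : X, a * b ≠ b * a) {z : X}
    (hf : Fx (l.comp j) ≤ fs (l z)) (hc : LinearMap.range (l z - 1) ≤ Cx (l.comp j)) : z ∈ H := by
  rcases h with h | h
  · obtain ⟨u, a, u0⟩ := SetLike.exists_of_lt ((Fx_le_comp j).lt_of_ne h.symm)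
    obtain ⟨v, -, c, e⟩ := key M hX (L := ⊤) (fun _ _ _ => trivial) trivial a u0
    exact e z (mem_fs.1 (hf c))
  · rw [Ne, ← Subspace.dualAnnihilator_inj, ← fx_dual, ← fx_dual, ← dual_comp] at h
    obtain ⟨u, a, u0⟩ := SetLike.exists_of_lt ((Fx_le_comp j).lt_of_ne (Ne.symm h))
    obtain ⟨v, -, c, e⟩ := key M hX (L := ⊤) (fun _ _ _ => trivial) trivial a u0
    rw [dual_comp, fx_dual, mem_dualAnnihilator] at c
    refine inv_mem_iff.1 (e z⁻¹ (LinearMap.ext fun w => ?_))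
    simpa [sub_eq_zero] using! c _ (hc ⟨w, rfl⟩)

omit [FiniteDimensional K W] [Finite X] [IsSimpleGroup X] in
theorem fx_le (l : X →* End K W) (j : A →* X) (x : A) : Fx (l.comp j) ≤ fs (l (j x)) :=
  fun _ c => mem_fs.2 (mem_Fx.1 c x)

omit [FiniteDimensional K W] [Finite X] [IsSimpleGroup X] in
theorem le_cx (l : X →* End K W) (j : A →* X) (x : A) : LinearMap.range (l (j x) - 1) ≤ Cx (l.comp j) := by
  rintro _ ⟨y, rfl⟩
  exact sub_mem_Cx (r := l.comp j) x y

theorem Nw.le {l : X →* End K W} (h : Nw l j) (M : Mx H j) (hX : ∃ a b : X, a * b ≠ b * a) {x : A}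
    (hz : Zs l (j x) T) : T ≤ H := fun z m =>
  h.mem M hX ((fx_le l j x).trans (hz.fx z m)) ((hz.cx z m).trans (le_cx l j x))

omit [Finite X] [IsSimpleGroup X] in
theorem not_ten {q z : ℕ} (hz : z = Nat.gcd 3 (q + 1)) (h : Tk q z 3 T) (h3 : 3 ≤ q) :
    ¬ Nat.card T ∣ 10 := fun d => by
  have h1 := h.le
  have h2 := Nat.le_of_dvd (by decide) d
  have h4 : z ≤ 3 := hz ▸ Nat.gcd_le_left _ (by decide)
  have h5 := Nat.mul_le_mul h4 h2
  obtain rfl | rfl | e : q = 3 ∨ q = 4 ∨ 5 ≤ q := by omega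
  · exact h.th rfl le_rfl d
  · subst hz; norm_num at h1; omega
  · have := Nat.pow_le_pow_left (show 4 ≤ q - 1 by omega) 3
    omega

omit [Finite X] [IsSimpleGroup X] in
theorem Tq.not18 {z : ℕ} (hz : z ≤ 3) (h : Tq 5 z 2 T) (c : Nat.card T ≤ 9 ∧ Nat.card T ∣ 18) (z0 : 0 < z) :
    False := by
  obtain ⟨d, n, h1, h2, h3, -, h4⟩ := h.md
  have h5 := (Nat.le_of_dvd z0 h1).trans hz
  have h6 := (Nat.pow_le_pow_right (n := 5 - 1) (by decide) h2).trans h3
  obtain ⟨c1, c2⟩ := c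
  generalize Nat.card T = c at *
  unfold Nat.ModEq at h4
  change 16 ≤ _ at h6
  interval_cases d <;> interval_cases c <;> simp_all

end

section
open CF.Chev CF.BN CF.ExA
variable {p q z : ℕ} [Fact p.Prime] {X : Type*} [Group X] [Finite X] (L : LS cE6 pE6 p q z X)

/-- The field of definition. -/
def Fq : Subfield L.K := RingHom.eqLocusField (L.φ.comp L.φ) (RingHom.id _)

omit [Finite X] in
include L in
theorem two_le_q : 2 ≤ q := by
  obtain ⟨M, hM, e⟩ := L.pow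
  exact e ▸ Nat.one_lt_pow hM.ne' (Fact.out : p.Prime).one_lt

omit [Finite X] in
theorem mem_Fq {t : L.K} : t ∈ Fq L ↔ t ^ q ^ 2 = t := by
  rw [pow_two, pow_mul, ← L.φ_eq, ← L.φ_eq]; rfl

omit [Finite X] in
theorem card_Fq : Finite (Fq L) ∧ Nat.card (Fq L) ≤ q ^ 2 := by
  classical
  have h1 : 1 < q ^ 2 := Nat.one_lt_pow two_ne_zero (two_le_q L)
  have h2 := FiniteField.X_pow_card_sub_X_ne_zero L.K h1
  have h3 : (Fq L : Set L.K) ⊆ (Polynomial.X ^ q ^ 2 - Polynomial.X : Polynomial L.K).roots.toFinset :=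
    fun t ht => by simp [h2, (mem_Fq L).1 ht]
  refine ⟨(Finset.finite_toSet _).subset h3, (Set.ncard_le_ncard h3).trans ?_⟩
  rw [Set.ncard_coe_finset]
  exact (Multiset.toFinset_card_le _).trans ((Polynomial.card_roots' _).trans
    (FiniteField.X_pow_card_sub_X_natDegree_eq _ h1).le)

omit [Finite X] in
theorem cast_iff {r : ℕ} (hr : r.Prime) : (r : L.K) = 0 ↔ p = r :=
  (CharP.cast_eq_zero_iff L.K p r).trans (Nat.prime_dvd_prime_iff_eq Fact.out hr)

variable {L} {R R' : L.G →* End L.K (N L.K)} {ε : ℤ} {f : L.G →* GL (Fin 6 ⊕ Fin 72) L.K}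
  {l : X →* End L.K (LA L.K)} {Φ : LA L.K →+ LA L.K} {H : Subgroup X}

omit [Finite X] in
theorem Sd.rq (S : Sd L R R' ε) : Rt (Fq L) (rY L R) :=
  ⟨(Pi.basisFun L.K I27).reindex (Fintype.equivFinOfCardEq (finrank_fintype_fun_eq_card L.K).symm),
    fun x a b => by simpa using (mem_Fq L).2 (S.rt x _ _)⟩

theorem rZ : Re C7.Z := by
  have := C7.Z3
  have k := C7.cZ
  generalize C7.Z = x at this k ⊢
  rwa [Re, inv_eq_of_mul_eq_one_left ((pow_succ _ 2).symm.trans this)]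

theorem ex11 {n : ℕ} (h : n = 11 ∨ n = 12) : ∃ x : An n, x ^ 11 = 1 ∧ x ≠ 1 ∧ IsConj x (x ^ 3) := by
  have k : ∃ x : An 11, x ^ 11 = 1 ∧ x ≠ 1 ∧ IsConj x (x ^ 3) :=
    ⟨ap ![1, 2, 3, 4, 5, 6, 7, 8, 9, 10, 0] ![10, 0, 1, 2, 3, 4, 5, 6, 7, 8, 9], by decide +kernel,
      by decide +kernel, isConj_iff.2 ⟨ap ![0, 3, 6, 9, 1, 4, 7, 10, 2, 5, 8] ![0, 4, 8, 1, 5, 9, 2, 6, 10, 3, 7],
        by decide +kernel⟩⟩
  rcases h with rfl | rfl
  · exact k
  obtain ⟨x, a, b, c⟩ := k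
  exact ⟨up x, by rw [← map_pow, a, map_one], mt (map_eq_one_iff _ up_inj).1 b, map_pow up x 3 ▸ up.map_isConj c⟩

variable (hz : z = Nat.gcd 3 (q + 1)) (big : q ^ 78 ≤ 4 * Nat.card X) {n : ℕ} {j : An n →* X}
  (M : Mx H j)
include hz big M

theorem Sd.fx (S : Sd L R R' ε) (h5 : 5 ≤ n) (h12 : n ≤ 12) {j' : An n →* Yg L}
    (hj : ∀ g, L.θ (j' g) = j g) : Al.Fx ((rY L R).comp j') = ⊥ := by
  have : Finite (Yg L) := L.frob.finite
  have := (card_Fq L).1
  have : Nontrivial (Fin n) := Fin.nontrivial_iff_two_le.2 (by omega)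
  have h1 : 2 * Nat.card (An n) = _ := two_mul_nat_card_alternatingGroup (α := Fin n)
  rw [Nat.card_perm, Nat.card_fin] at h1
  have h2 := Nat.factorial_le h12
  have h0 := M.c4
  have sc := fun g h => (S.sc g h).imp fun _ e => e.2.2
  have q2 := two_le_q L
  by_cases h11 : q = 2 ∧ 11 ≤ n
  · obtain ⟨rfl, h11⟩ := h11
    obtain ⟨x, a, b, c⟩ := ex11 (n := n) (by omega)
    refine nlw (ce L hz) h5 M hj (S.jp.comp _) S.irr sc (fun g a b => (mem_Fq L).2 (S.rt g a b))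
      (fun v hv => w11 ?_ S (x := j' x) (by rw [← map_pow, a, map_one])
        (fun e => b (M.inj (by rw [← hj, e, map_one, map_one]))) (map_pow j' x 3 ▸ j'.map_isConj c) v
        (mem_Fx.1 hv x)) ?_
    · rintro rfl
      obtain ⟨m, hm, e⟩ := L.pow
      have := Nat.le_self_pow hm.ne' 11
      omega
    · have := Nat.mul_le_mul (h0.trans (show _ ≤ 958003200 by norm_num [Nat.factorial] at h2; omega))
        (Nat.mul_le_mul_left 27 (Nat.pow_le_pow_left (card_Fq L).2 17))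
      omega
  refine nl (ce L hz) h5 M hj S.irr (by simp) sc S.rq ?_
  have h3 : 4 * Nat.card H < q ^ 24 := by
    rcases q2.eq_or_lt with rfl | q3
    · rcases (show n ≤ 9 ∨ n = 10 by omega) with h9 | rfl
      · have := Nat.factorial_le h9
        norm_num [Nat.factorial] at this
        omega
      · have := card2 h5 (by decide) M
        norm_num [Nat.factorial] at this
        omega
    · have := Nat.pow_le_pow_left (show 3 ≤ q from q3) 24
      norm_num [Nat.factorial] at h2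
      omega
  have h4 := Nat.mul_le_mul_left (Nat.card H) (Nat.pow_le_pow_left (card_Fq L).2 27)
  have h6 := Nat.mul_lt_mul_of_pos_right h3 (Nat.pow_pos (n := 54) (show 0 < q by omega))
  rw [← pow_add, mul_assoc, show 24 + 54 = 78 from rfl] at h6
  rw [← pow_mul, show 2 * 27 = 54 from rfl] at h4
  rw [show finrank L.K (N L.K) = 27 by simp]
  omega

theorem hn (S : Sd L R R' 1) (D : Ld L f l Φ) (t : TB q (rY L R) (rY L (X3.Ad f))) (h5 : 5 ≤ n)
    (h12 : n ≤ 12) {j' : An n →* Yg L} (hj : ∀ g, L.θ (j' g) = j g) :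
    HN q ((rY L R).comp j') ((rY L R').comp j') (l.comp j) := by
  have := t.comp (j := j') fun a b e => M.inj (by rw [← hj, ← hj, e])
  rw [show (rY L (X3.Ad f)).comp j' = l.comp j from MonoidHom.ext fun g =>
    (D.eq _).symm.trans (congrArg l (hj g))] at this
  exact ⟨(S.jp.comp _).comp _, this, S.fx hz big M h5 h12 hj, S.symm.fx hz big M h5 h12 hj⟩

variable [IsSimpleGroup X] (hX : ∃ a b : X, a * b ≠ b * a)
include hX

omit big in
theorem hl (D : Ld L f l Φ) (t : TL q l) (h5 : 5 ≤ n) (h7 : n ≤ 7) : HL q (Nw l j) (l.comp j) := by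
  refine ⟨t.comp M.inj, fun k => ?_, fun k a b y e r d => ?_⟩
  · rw [Nw, not_or, not_not, not_not] at k
    rw [k.1, k.2]
    exact ⟨D.fx, D.fx', D.cx⟩
  · obtain ⟨T, h1, h2⟩ := (tu hz D).u5 a (j y) (by rw [← map_pow, e, map_one]) (r.map j) d
    refine not_ten hz h1.toTk b (cen5 h5 h7 M (k.le M hX h2) e ?_ h2.cm)
    rintro rfl
    rw [dm_one, t.dl] at d
    omega

omit big in
theorem k2 (D : Ld L f l Φ) (t : TL q l) (k : Nw l j) (a : (2 : L.K) ≠ 0) {x : An n} (e : x ^ 2 = 1)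
    (d : dm (l.comp j) x = 46) {m : ℕ} (m0 : 0 < m) (c : x ≠ 1 → ∀ s ∈ H,
      (∀ g, Commute g x → Commute (j g) s) → s ^ m = 1) : q ≤ m * z + 1 := by
  obtain ⟨T, h1, h2, h3⟩ := (tu hz D).u2 a (j x) (by rw [← map_pow, e, map_one]) d
  refine h1.ex one_pos m m0 fun s hs => c ?_ s (k.le M hX h2 hs) fun g hg => h3 _ (hg.map j) s hs
  rintro rfl
  rw [dm_one, t.dl] at d
  omega

end

section
open CF.Chev CF.BN CF.ExA
variable {p q z : ℕ} [Fact p.Prime] {X : Type*} [Group X] [Finite X] [IsSimpleGroup X]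
  {L : LS cE6 pE6 p q z X} {R R' : L.G →* End L.K (N L.K)} {f : L.G →* GL (Fin 6 ⊕ Fin 72) L.K}
  {l : X →* End L.K (LA L.K)} {Φ : LA L.K →+ LA L.K} {H : Subgroup X} (hz : z = Nat.gcd 3 (q + 1))
  (big : q ^ 78 ≤ 4 * Nat.card X) (hX : ∃ a b : X, a * b ≠ b * a) (S : Sd L R R' 1) (D : Ld L f l Φ)
  (t : TB q (rY L R) (rY L (X3.Ad f))) (t' : TL q l)
include hz big hX S D t t'

theorem m5 {j : An 5 →* X} (M : Mx H j) : False := by
  have : Finite (Yg L) := L.frob.finite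
  obtain ⟨j', hj⟩ := exists_split (ce L hz) le_rfl (by decide) (by decide) M.inj
  refine c5 (hn hz big M S D t le_rfl (by decide) hj) (hl hz M hX D t' le_rfl (by decide))
    fun k a x e d => ?_
  have h1 := k2 hz M hX D t' k a e d two_pos fun n s m c => cen25 M e n m c
  have h2 := two_le_q L
  have h3 : ¬ 2 ∣ q := by
    rintro ⟨c, rfl⟩
    obtain ⟨M, hM, e⟩ := L.pow
    exact a ((cast_iff L Nat.prime_two).2 ((Nat.prime_dvd_prime_iff_eq Nat.prime_two Fact.out).1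
      (Nat.prime_two.dvd_of_dvd_pow (e ▸ dvd_mul_right 2 c))).symm)
  have h4 : z ≤ 3 := hz ▸ Nat.gcd_le_left _ (by decide)
  have h5 : q ≤ 7 := by omega
  have h6 : q = 3 ∨ q = 5 ∨ q = 7 := by omega
  refine h6.imp_right fun h6 => h6.resolve_left ?_
  rintro rfl
  obtain ⟨c1, c2, c3⟩ := inv5 e (by rintro rfl; rw [dm_one, t'.dl] at d; omega)
  obtain ⟨T, k1, k2⟩ := (tu hz D).u22 a (j s5) (j t5) (by rw [← map_pow, show s5 ^ 2 = 1 by decide, map_one])
    (by rw [← map_pow, show t5 ^ 2 = 1 by decide, map_one]) (Commute.map (show s5 * t5 = t5 * s5 by decide) j)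
    ((dm_conj (r := l.comp j) c1).symm.trans d) ((dm_conj (r := l.comp j) c2).symm.trans d)
    (map_mul j s5 t5 ▸ (dm_conj (r := l.comp j) c3).symm.trans d)
  have := cenV5 M (fun s m => k.mem M hX ((le_inf (fx_le l j _) (fx_le l j _)).trans (k2 s m).2.2.1)
    ((k2 s m).2.2.2.trans (sup_le (le_cx l j _) (le_cx l j _)))) fun s m => ⟨(k2 s m).1, (k2 s m).2.1⟩
  have := Nat.mul_le_mul h4 this
  have := k1.le
  omega

theorem m6 {j : An 6 →* X} (M : Mx H j) : 7 ≤ p := by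
  have : Finite (Yg L) := L.frob.finite
  have k := hl hz M hX D t' (by decide) (by decide)
  obtain ⟨m, hm, hq⟩ := L.pow
  by_contra! hp
  have h1 : p = 2 ∨ p = 3 ∨ p = 5 := by
    have := (Fact.out : p.Prime)
    interval_cases p <;> simp_all (config := {decide := true})
  have h3 : p = 3 → z = 1 := fun e => hz.trans (by
    rw [hq, e]
    exact (Nat.coprime_self_add_right.2 (Nat.coprime_one_right _)).coprime_dvd_left (dvd_pow_self 3 hm.ne'))
  rcases split6 (ce L hz) M.inj with ⟨j', hj⟩ | ⟨z3, nc⟩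
  · have h := hn hz big M S D t (by decide) (by decide) hj
    by_cases e : p = 3
    · have e' := (cast_iff L Nat.prime_three).2 e
      obtain ⟨a, d2, d4, d5⟩ := c6b h k e' fun k x b d => by
        simpa [h3 e] using k2 hz M hX D t' k
          (mt (cast_iff L Nat.prime_two).1 (by omega)) b d four_pos fun n s m c => cen26 M b n m c
      have h9 : 9 ≤ q := by
        rw [hq, e] at a ⊢
        exact Nat.pow_le_pow_right (n := 3) (i := 2) (by decide)
          (by by_contra! c; exact a (by rw [show m = 1 by omega, pow_one]))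
      obtain ⟨w, v⟩ := v6 hz e h9 M hj S d2
      obtain ⟨w', v'⟩ := v6 hz e h9 M hj S.symm fun x a b => (h.jp.dm_eq x).trans (d2 x a b)
      exact c6c h e' d2 d4 d5 w w' v v'
    · exact c6a h ((h1.imp_right fun c => c.resolve_left e).imp (cast_iff L Nat.prime_two).2
        (cast_iff L Nat.prime_five).2)
  have x3 := ns3 hz S D t M.inj nc
  have nw := c6n k x3
  have p3 : p ≠ 3 := fun e => by omega
  have h4 : 3 ∣ q + 1 := by rw [z3] at hz; exact hz ▸ Nat.gcd_dvd_right _ _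
  obtain ⟨T, h5, h6⟩ := (tu hz D).u3 (mt (cast_iff L Nat.prime_three).1 p3) (j x6)
    (by rw [← map_pow, show x6 ^ 3 = 1 by decide, map_one])
    (Re.map j (isConj_iff.2 ⟨ap ![1, 0, 2, 4, 3, 5] ![1, 0, 2, 4, 3, 5], by decide⟩))
    (x3 x6 (by decide) (by decide))
  have h7 := cenA6 M (nw.le M hX h6) h5.ab h6.cm
  by_cases h16 : 7 ≤ q
  · have h8 := h5.le
    have := Nat.pow_le_pow_left (show 6 ≤ q - 1 by omega) 2
    rw [z3] at h8
    omega
  have q2 := two_le_q L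
  obtain rfl | rfl : q = 2 ∨ q = 5 := by omega
  · obtain rfl : p = 2 := le_antisymm (hq ▸ Nat.le_self_pow hm.ne' p) (Fact.out : p.Prime).two_le
    obtain ⟨T, a, b, c⟩ := k5 D M hX nw (y := f6) (by decide) (by decide)
    exact c (cen5 (by decide) (by decide) M a (by decide) (by decide) b)
  · exact h5.not18 z3.le h7 (by omega)

theorem m7 {j : An 7 →* X} (M : Mx H j) : False := by
  have : Finite (Yg L) := L.frob.finite
  have k := hl hz M hX D t' (by decide) (by decide)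
  obtain ⟨m, hm, hq⟩ := L.pow
  have pq : p ≤ q := hq ▸ Nat.le_self_pow hm.ne' p
  have k3 : p ≠ 5 → 3 ≤ q → ¬ Nw l j := fun a b c =>
    have a' := mt (cast_iff L Nat.prime_five).1 a
    have r : Re C3.Y := by
      rw [Re, inv_eq_of_mul_eq_one_left ((pow_succ _ 4).symm.trans C3.Y5)]; exact C3.cY4
    k.k5 c a' b _ C3.Y5 r ((k.tl.t5 a' _ C3.Y5 C3.Y1 r).2 (.inl C3.cY2))
  by_cases h5 : p = 5
  · have e := (cast_iff L Nat.prime_five).2 h5
    have h6 : z ≤ 3 := hz ▸ Nat.gcd_le_left _ (by decide)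
    have e3 := mt (cast_iff L Nat.prime_three).1 (show p ≠ 3 by omega)
    have sp : dm (l.comp j) C7.Z ≠ 30 → ∃ j' : An 7 →* Yg L, ∀ g, L.θ (j' g) = j g := fun d =>
      (split7 (ce L hz) M.inj).resolve_right fun ⟨_, nc⟩ => d ((dm_conj (r := l.comp j) zup).symm.trans
        (ns3 hz S D t (j := j.comp up) (M.inj.comp up_inj) nc (x6 * y6) (by decide) (by decide)))
    have nw : ¬ Nw l j := fun c => by
      obtain ⟨⟨T, h1, h2⟩, u⟩ := (tu hz D).u7 (mt (cast_iff L (by norm_num : Nat.Prime 7)).1 (by omega))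
        (j (C3.T * C3.U)) (by rw [← map_pow, C3.W7, map_one]) (mt (map_eq_one_iff j M.inj).1 C3.W1)
        (map_pow j _ 2 ▸ j.map_isConj C3.cW2)
      rcases (show m = 1 ∨ 2 ≤ m by omega) with rfl | c'
      · obtain rfl : q = 5 := by rw [hq, h5, pow_one]
        by_cases d : dm (l.comp j) C7.Z = 30
        · obtain ⟨T, h3, h4⟩ := (tu hz D).u3 e3 (j C7.Z) (by rw [← map_pow, C7.Z3, map_one])
            (rZ.map j) d
          exact h3.not18 h6 (cenZ7 M (c.le M hX h4) h3.ab h4.cm) (hz ▸ by decide)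
        obtain ⟨j', hj⟩ := sp d
        have w := c7q (hn hz big M S D t (by decide) (by decide) hj) e d
        obtain ⟨T, h3, h4⟩ := u w
        have := Nat.mul_le_mul h6 (cen7 M (c.le M hX h4) C3.W7 C3.W1 h4.cm)
        have := h3.le
        omega
      · have := Nat.mul_le_mul h6 (cen7 M (c.le M hX h2) C3.W7 C3.W1 h2.cm)
        have := h1.le
        have := Nat.pow_le_pow_right (n := p) (by omega) c'
        have := Nat.pow_le_pow_left (show 24 ≤ q - 1 by subst h5; omega) 2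
        omega
    obtain ⟨-, h1, h2⟩ := k.old nw
    obtain ⟨j', hj⟩ := sp (by
      rw [(c7a k.tl (h1 e3) h2 (mt (cast_iff L Nat.prime_two).1 (by omega)) e3).2.2.1]; decide)
    obtain ⟨U, a, b, c, d, g⟩ := c75 k.tl (h1 e3) h2 e
      (bk L.K) (fun g u v => by
        obtain ⟨y, hy⟩ := L.surj (j g)
        simp only [MonoidHom.comp_apply, ← hy, D.eq, D.br]) D.alt
    exact p5 hz h5 M hj D a b c d g
  by_cases h2 : p = 2
  · have e := (cast_iff L Nat.prime_two).2 h2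
    rcases split7 (ce L hz) M.inj with ⟨j', hj⟩ | ⟨z3, nc⟩
    · exact c72s (hn hz big M S D t (by decide) (by decide) hj) e
    obtain ⟨-, h3, h4⟩ := k.old fun c => by
      refine k3 h5 (by_contra fun q3 => ?_) c
      obtain rfl : q = 2 := by omega
      subst h2
      obtain ⟨T, a, b, c⟩ := k5 D M hX c C3.Y5 C3.Y1
      exact c (cen5 (by decide) (by decide) M a C3.Y5 C3.Y1 b)
    exact c72n k.tl (h3 (mt (cast_iff L Nat.prime_three).1 (by omega))) h4 e
      (ns3 hz S D t (j := j.comp up) (M.inj.comp up_inj) nc)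
  have p3 : 3 ≤ p := by have := (Fact.out : p.Prime).two_le; omega
  by_cases h3 : p = 3
  · have e := (cast_iff L Nat.prime_three).2 h3
    rcases split7 (ce L hz) M.inj with ⟨j', hj⟩ | ⟨z3, -⟩
    · have h := hn hz big M S D t (by decide) (by decide) hj
      obtain ⟨a, b, c, d, g⟩ := c73a h k e
      obtain ⟨-, -, -, d', g'⟩ := c73a h.symm k e
      exact c73b h e a b c d g g' (w7 hz h3 M hj S d) (w7 hz h3 M hj S.symm d')
    · have h4 : 3 ∣ q + 1 := by rw [z3] at hz; exact hz ▸ Nat.gcd_dvd_right _ _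
      have h6 : 3 ∣ q := hq ▸ h3 ▸ dvd_pow_self p hm.ne'
      omega
  obtain ⟨-, h4, h6⟩ := k.old (k3 h5 (p3.trans pq))
  have e := mt (cast_iff L Nat.prime_three).1 h3
  exact c7p k.tl (h4 e) h6 (mt (cast_iff L Nat.prime_two).1 h2) e (mt (cast_iff L Nat.prime_five).1 h5)

omit hX t' in
theorem m8 {n : ℕ} (h8 : 8 ≤ n) (h12 : n ≤ 12) {j : An n →* X} (M : Mx H j) : False := by
  have : Finite (Yg L) := L.frob.finite
  obtain ⟨j', hj⟩ := exists_split (ce L hz) (by omega) (by omega) (by omega) M.inj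
  have h := hn hz big M S D t (by omega) h12 hj
  by_cases h2 : (2 : L.K) = 0
  · rcases h8.eq_or_lt with rfl | h9
    exacts [c82b h h2 (c82a h h2), c92 h9 h12 h h2]
  · exact c8o h8 h.tb h2

end

theorem big_E6 {q : ℕ} (h : 2 ≤ q) : 3 * q ^ 78 ≤
    4 * (q ^ 36 * (q ^ 2 - 1) * (q ^ 5 + 1) * (q ^ 6 - 1) * (q ^ 8 - 1) * (q ^ 9 + 1) * (q ^ 12 - 1)) := by
  rcases h.eq_or_lt with rfl | h
  · norm_num
  have k : ∀ n, 3 ^ n * (q ^ n - 1) ≥ (3 ^ n - 1) * q ^ n := fun n => by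
    have h1 := Nat.pow_le_pow_left (show 3 ≤ q from h) n
    have h2 := Nat.one_le_pow n 3 (by decide)
    zify [h2, h2.trans h1] at h1 ⊢
    linarith
  have := Nat.mul_le_mul (Nat.mul_le_mul (Nat.mul_le_mul (Nat.mul_le_mul (Nat.mul_le_mul
    (Nat.mul_le_mul_left (q ^ 36) (k 2)) (Nat.le_succ (q ^ 5))) (k 6)) (k 8)) (Nat.le_succ (q ^ 9))) (k 12)
  simp only [Nat.succ_eq_add_one] at this
  generalize q ^ 2 - 1 = a, q ^ 5 + 1 = a', q ^ 6 - 1 = b, q ^ 8 - 1 = c, q ^ 9 + 1 = c',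
    q ^ 12 - 1 = d at this ⊢
  rw [show q ^ 36 * ((3 ^ 2 - 1) * q ^ 2) * q ^ 5 * ((3 ^ 6 - 1) * q ^ 6) *
      ((3 ^ 8 - 1) * q ^ 8) * q ^ 9 * ((3 ^ 12 - 1) * q ^ 12) =
      20303899033600 * q ^ 78 by norm_num; ring,
    show q ^ 36 * (3 ^ 2 * a) * a' * (3 ^ 6 * b) * (3 ^ 8 * c) * c' * (3 ^ 12 * d) =
      22876792454961 * (q ^ 36 * a * a' * b * c * c' * d) by ring] at this
  omega

open CF.Chev CF.BN CF.ExA in
theorem main {F : Type*} [Field F] [Fintype F] (p b : ℕ) [Fact p.Prime] (hb : 1 ≤ b)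
    (hF : Fintype.card F = (p ^ b) ^ 2) (H : Subgroup (twistedE6 F (p ^ b))) (hH : IsCoatom H) (n : ℕ)
    (hn : 5 ≤ n) (e : generalizedFittingSubgroup H ≃* alternatingGroup (Fin n)) : n = 6 ∧ 7 ≤ p := by
  have hq := (Fact.out : p.Prime).isPrimePow.pow (show b ≠ 0 by omega)
  obtain ⟨p', _, ⟨L⟩⟩ := exists_LS_E6 hq hF
  obtain rfl : p = p' := by
    obtain ⟨M, hM, e⟩ := L.pow
    exact (Nat.prime_dvd_prime_iff_eq Fact.out Fact.out).1
      ((Fact.out : p.Prime).dvd_of_dvd_pow (e ▸ dvd_pow_self p (by omega)))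
  have hc := Cfsg.Agent.S1066.result hq hF
  obtain ⟨hs, hX⟩ := Cfsg.Agent.S1070.result hq hF
  generalize p ^ b = q at *
  have big : q ^ 78 ≤ 4 * Nat.card (twistedE6 F q) := by
    have := big_E6 (two_le_q L)
    have := Nat.mul_le_mul_right (Nat.card (twistedE6 F q)) (Nat.gcd_le_left (q + 1) three_pos)
    omega
  have : Finite (twistedE6 F q) := Nat.finite_of_card_ne_zero fun k => by
    have := Nat.pow_pos (n := 78) (show 0 < q from (two_le_q L).trans_lt' two_pos)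
    omega
  have : Finite (Yg L) := L.frob.finite
  replace hX : ∃ a b : twistedE6 F q, a * b ≠ b * a := by
    by_contra! k
    exact hX ⟨⟨k⟩⟩
  obtain ⟨j, M⟩ := exists_mx hH hn e
  have hb := bound_E6 L (r := n)
    (Sec.of_inj ⟨⊤, Subgroup.subtype _, fun x => ⟨⟨x, trivial⟩, rfl⟩⟩ j M.inj)
  obtain ⟨R, R', S, hx⟩ := exists_sd L
  obtain ⟨f, l, Φ, D⟩ := exists_ld L
  have t := tb S D.hf fun h x e => I2.main h hx x.2 (congrArg Subtype.val e)
  have t' := TL.down (ce L rfl) t.toTL D.eq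
  by_cases h8 : 8 ≤ n
  · exact (m8 rfl big S D t h8 (by split_ifs at hb <;> omega) M).elim
  obtain rfl | rfl | rfl : n = 5 ∨ n = 6 ∨ n = 7 := by omega
  exacts [(m5 rfl big hX S D t t' M).elim, ⟨rfl, m6 rfl big hX S D t t' M⟩,
    (m7 rfl big hX S D t t' M).elim]

end CF.An
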