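import Cfsg.Agent.Am.R1

/-! The two modules of dimension `27` and the graph automorphism. -/

set_option autoImplicit false

namespace CF.An.R0

open Module Function Cfsg.Lie CF.E83 CF.Al CF.Chev CF.BN Matrix CF.Am CF.Am.R1
open CF.Geom.E6 (tg sg eF Col mono)

/-- The permutation of the weights. -/
def jw (a : I27) : I27 := (fun n : ℕ => (.ofNat 3 (n / 9), .ofNat 3 (n / 3), .ofNat 3 n))
  ([10, 13, 16, 11, 14, 17, 9, 12, 15, 6, 0, 3, 7, 1, 4, 8, 2, 5, 23, 26, 20, 21, 24, 18, 22, 25, 19].getD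
    (9 * a.1 + 3 * a.2.1 + a.2.2) 0)

/-- The signs. -/
def je (a : I27) : ℤ := [1, 1, 1, -1, -1, -1, -1, -1, -1, -1, 1, -1, -1, 1, -1, -1, 1, -1, -1, 1, 1, 1, -1, -1, -1,
  1, 1].getD (9 * a.1 + 3 * a.2.1 + a.2.2) 0

theorem j_spec : ∀ a, jw (jw a) = a ∧ je (jw a) = je a ∧ je a * je a = 1 ∧
    ∀ i, Geom.E6.wt (jw a) i = -Geom.E6.wt a (pE6 i) := by decide +kernel

/-- The relation between the tables. -/
abbrev Ok (r s : ℕ) (b : I27) : Prop :=
  sg r (jw b) * je b = -(je (tg s b) * sg s b) ∧ (sg s b = 0 ∨ tg r (jw b) = jw (tg s b))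

theorem j_root : ∀ (i : Fin 6) b, Ok (cE6.simple (pE6 i)) (cE6.neg (cE6.simple i)) b ∧
    Ok (cE6.neg (cE6.simple (pE6 i))) (cE6.simple i) b := by decide +kernel

variable {K : Type*} [Field K]

variable (K) in
/-- The signed permutation matrix. -/
def jM : Matrix I27 I27 K := mono jw fun b => je b

theorem jM_mulVec (v : N K) (a : I27) : (jM K *ᵥ v) a = je a * v (jw a) := by
  rw [mulVec, dotProduct, Finset.sum_eq_single (jw a)]
  · simp [jM, mono, j_spec]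
  · intro b _ h
    have : a ≠ jw b := fun e => h (by rw [e, (j_spec b).1])
    simp [jM, mono, this]
  · simp

theorem jM_sq : jM K * jM K = 1 := by
  rw [jM, Geom.E6.mono_mul]
  ext a b
  simp [mono, j_spec, ← Int.cast_mul, one_apply]

theorem jM_tp : (jM K)ᵀ = jM K := by
  ext a b
  by_cases h : a = jw b
  · simp [jM, mono, h, j_spec]
  · have : b ≠ jw a := fun e => h (by rw [e, (j_spec a).1])
    simp [jM, mono, h, this]

theorem jM_T (v : N K) : cubicT (jM K *ᵥ v) = cubicT v := by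
  have : jM K *ᵥ v = fun a => je a * v (jw a) := funext (jM_mulVec v)
  rw [this]
  simp [cubicT, mat3, det_fin_three, trace, Matrix.mul_apply, Fin.sum_univ_three, je, jw, Fin.ofNat]
  ring

variable (K) in
/-- The signed permutation matrix as a unit. -/
def jG : GL I27 K := ⟨jM K, jM K, jM_sq, jM_sq⟩

theorem tr_jG : tr (jG K) = jG K := Units.ext jM_tp

theorem jG_mem : jG K ∈ E6univ K := jM_T

theorem e_jM {r s : ℕ} (h : ∀ b, Ok r s b) : eF K r * jM K = -(jM K * eF K s) := by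
  rw [eF, eF, jM, Geom.E6.mono_mul, Geom.E6.mono_mul]
  ext a b
  obtain ⟨h1, h2⟩ := h b
  have h3 := congrArg (Int.cast (R := K)) h1
  push_cast at h3
  simp only [neg_apply, mono, of_apply, h3, Function.comp_apply]
  rcases h2 with h2 | h2
  · simp [h2]
  · rw [h2]; split_ifs <;> simp [*]

/-- What is known about the representation of the algebraic group. -/
structure Rp {G : Type*} [Group G] {ρ : StRep cE6 K G} (h : Univ ρ) (σ : G →* GL I27 K) : Prop where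
  x : ∀ r t, (σ (ρ.x r t)).1 = 1 + t • eF K r
  x' : ∀ r t, tr (σ (ρ.x r t)) = σ (ρ.x (cE6.neg r) (-t))
  tor : ∀ c, (σ (h.r3.tor c)).1 = diagonal fun a => ((∏ i, c i ^ Geom.E6.wt a i : Kˣ) : K)
  tor' : ∀ c, (tr (σ (h.r3.tor c))).1 = diagonal fun a => ((∏ i, c i ^ (-Geom.E6.wt a i) : Kˣ) : K)
  jp : JP (en ((Units.coeHom _).comp σ)) (en ((Units.coeHom _).comp (tr.comp σ)))
  cen : ∀ g ∈ Subgroup.center G, ∃ a : K, a ^ 3 = 1 ∧ (g ≠ 1 → a ≠ 1) ∧ ∀ v, (σ g).1 *ᵥ v = a • v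
  cen' : ∀ g ∈ Subgroup.center G, ∃ a : K, a ^ 3 = 1 ∧ (g ≠ 1 → a ≠ 1) ∧ ∀ v, (tr (σ g)).1 *ᵥ v = a • v

theorem exists_rp [Infinite K] {G : Type*} [Group G] {ρ : StRep cE6 K G} (H : Univ ρ) : ∃ σ, Rp H σ := by
  have h3 : (st6 K).R3 := MinRep.r3_st _ K _
  have h4 := h3.tor_apply_of_diag (Units.coeHom _) Geom.E6.wt val_h6
  obtain ⟨σ, hσ⟩ := StRep.exists_hom_of_tor H.faith H.top H.r3 h3
    fun c hc => by rw [(injective_iff_map_eq_one _).1 H.inj c hc, map_one]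
  have hx : ∀ r t, (σ (ρ.x r t)).1 = 1 + t • eF K r := fun r t =>
    (congrArg Units.val (hσ r t)).trans (Geom.E6.val_st_x _ r t)
  have hx' : ∀ r t, tr (σ (ρ.x r t)) = σ (ρ.x (cE6.neg r) (-t)) := fun r t => Units.ext (by
    change (σ _)⁻¹.1ᵀ = _
    rw [← map_inv, ← PreSt.x_neg, hx, hx, transpose_add, transpose_smul, eF_tp, transpose_one])
  have ht : ∀ c, (σ (H.r3.tor c)).1 = diagonal fun a => ((∏ i, c i ^ Geom.E6.wt a i : Kˣ) : K) := fun c =>
    (congrArg Units.val (fh_tor (τ := .id _) hσ _ h3 c)).trans (h4 c)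
  have hF : ∃ s : K, s ≠ 0 ∧ s ≠ 1 := by
    classical
    obtain ⟨s, h⟩ := Infinite.exists_notMem_finset ({0, 1} : Finset K)
    exact ⟨s, by simpa using h⟩
  have m : ∀ g, σ g ∈ E6univ K ∧ tr (σ g) ∈ E6univ K := fun g => by
    have : ρ.Gp ≤ (E6univ K ⊓ (E6univ K).comap tr).comap σ := ρ.U_le_iff.2 fun r _ t =>
      ⟨hσ r t ▸ Geom.E6.st_mem _ r t, Subgroup.mem_comap.2 (by rw [hx', hσ]; exact Geom.E6.st_mem _ _ _)⟩
    exact this (H.top ▸ trivial)
  let R := en ((Units.coeHom _).comp σ)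
  let R' := en ((Units.coeHom _).comp (tr.comp σ))
  have e : ∀ g v, R g v = (σ g).1 *ᵥ v := fun g v => en_apply ..
  have e' : ∀ g v, R' g v = (tr (σ g)).1 *ᵥ v := fun g v => en_apply ..
  have jp : JP R R' := fun g => ⟨fun v w => by rw [e, e', pair], fun v => by rw [e, e', sh_map hF (m g).1],
    fun v => by rw [e, e', sh_map hF (m g).2, tr_tr], fun v => e g v ▸ (m g).1 v, fun v => e' g v ▸ (m g).2 v⟩
  have ce : ∀ g ∈ Subgroup.center G, ∃ a : K, a ^ 3 = 1 ∧ (g ≠ 1 → a ≠ 1) ∧ ∀ v, R g v = a • v := by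
    intro g hg
    obtain ⟨c, -, rfl⟩ := H.mem_center_iff.1 hg
    set d : I27 → Kˣ := fun a => ∏ i, c i ^ Geom.E6.wt a i with hd
    have h1 : ∀ a k, a ≠ k → ¬Col a k → d k = d a := fun a k n cl => by
      obtain ⟨s, rfl, h⟩ := Geom.E6.exists_root a k n cl
      have := congrFun₂ (congrArg (σ · |>.1) (Subgroup.mem_center_iff.1 hg (ρ.x s 1))) (tg s a) a
      simp only [map_mul, Units.val_mul, hx, ht, mul_diagonal, diagonal_mul] at this
      refine Units.ext (mul_left_cancel₀ ?_ (this.trans (mul_comm _ _))).symm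
      simpa [eF, mono, n.symm] using left_ne_zero_of_mul_eq_one (Geom.E6.sg_sq (F := K) h)
    have h2 : ∀ k, d k = d 0 := fun k => by
      rcases IR.conn 0 k with rfl | cl | ⟨m, a1, a2, a3, a4⟩
      · rfl
      · exact (eq_or_ne _ k).elim (· ▸ rfl) (h1 _ _ · cl)
      · exact (h1 _ _ a3 a4).trans (h1 _ _ a1 a2)
    have h5 : ∀ v, R (H.r3.tor c) v = (d 0 : K) • v := fun v => funext fun a => by
      rw [e, ht, mulVec_diagonal, ← h2 a]; rfl
    refine ⟨d 0, ?_, fun n o => n ?_, h5⟩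
    · have := (jp (H.r3.tor c)).t1 fun a => if a.1 = 0 ∧ a.2.1 = a.2.2 then 1 else 0
      rw [h5, Geom.E6.T_smul] at this
      simpa [cubicT, mat3, det_fin_three, trace, Matrix.mul_apply, Fin.sum_univ_three] using this
    · rw [show c = 1 from funext fun j => ?_, map_one]
      have : ∏ l, d (Geom.E6.fr l) ^ Geom.E6.inv6 j l = c j := by
        have : ∀ (x : Kˣ) (f : Fin 6 → ℤ), ∏ i, x ^ f i = x ^ ∑ i, f i := fun x f => by
          simp [Fin.prod_univ_six, Fin.sum_univ_six, _root_.zpow_add]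
        simp only [hd, ← Finset.prod_zpow, ← _root_.zpow_mul]
        rw [Finset.prod_comm]
        simp only [this, mul_comm (Geom.E6.wt _ _), inv6']
        simp
      simpa [h2, Units.val_eq_one.1 o] using this.symm
  refine ⟨σ, hx, hx', ht, fun c => ?_, jp, fun g hg => by simpa only [e] using ce g hg, fun g hg => ?_⟩
  · rw [show (tr (σ _)).1 = (σ _)⁻¹.1ᵀ from rfl, ← map_inv, ← map_inv, ht, diagonal_transpose]
    simp
  · obtain ⟨a, a1, a2, a3⟩ := ce g hg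
    exact ⟨a ^ 2, by rw [← pow_mul, mul_comm, pow_mul, a1, one_pow], fun n o => a2 n (by
      rw [← a1, pow_succ, o, one_mul]), fun v => e' g v ▸ scal (jp g) a1 a3 v⟩

variable {p q z : ℕ} [Fact p.Prime] {X : Type*} [Group X] {L : LS cE6 pE6 p q z X} {σ : L.G →* GL I27 L.K}
  (h : Rp L.h σ)
include h

theorem Rp.fr (g : L.G) : σ (L.T.σ g) * jG L.K = jG L.K * GeneralLinearGroup.map L.φ (tr (σ g)) := by
  have : σ.comp L.T.σ = (MulAut.conj (jG L.K)).toMonoidHom.comp ((GeneralLinearGroup.map L.φ).comp (tr.comp σ)) := by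
    have k : ∀ (r s : Fin 72) t, (∀ b, Ok r (cE6.neg s) b) → σ (L.ρ.x r (L.φ t)) =
        jG L.K * GeneralLinearGroup.map L.φ (tr (σ (L.ρ.x s t))) * (jG L.K)⁻¹ := fun r s t m => by
      rw [eq_mul_inv_iff_mul_eq, h.x']
      have : (σ (L.ρ.x (cE6.neg s) (-t))).1.map L.φ = 1 + (-L.φ t) • eF L.K (cE6.neg s) := by
        rw [h.x]
        ext a b
        simp [one_apply, eF, mono, apply_ite L.φ]
      refine Units.ext ?_
      change _ * jM _ = jM _ * (σ _).1.map L.φ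
      rw [this]
      simp [h.x, add_mul, mul_add, e_jM m]
    refine MonoidHom.eq_of_eqOn_dense (L.ρ.U_simple.trans L.h.top) ?_
    rintro _ ⟨r, ⟨i, rfl | rfl⟩, t, rfl⟩
    · exact (congrArg σ (L.gr.σ_pos i t)).trans (k _ _ t fun b => (j_root i b).1)
    · exact (congrArg σ (L.gr.σ_neg i t)).trans (k _ _ t fun b => by simpa using (j_root i b).2)
  exact eq_mul_inv_iff_mul_eq.1 (DFunLike.congr_fun this g)

theorem Rp.fr1 (g : L.G) (v : N L.K) :
    (σ (L.T.σ g)).1 *ᵥ jM L.K *ᵥ (L.φ ∘ v) = jM L.K *ᵥ (L.φ ∘ ((tr (σ g)).1 *ᵥ v)) := by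
  rw [mulVec_mulVec, show (σ _).1 * jM _ = jM _ * (tr (σ g)).1.map L.φ from congrArg Units.val (h.fr g),
    ← mulVec_mulVec]
  exact congrArg _ (funext fun a => (RingHom.map_mulVec ..).symm)

theorem Rp.fr2 (g : L.G) (v : N L.K) :
    (tr (σ (L.T.σ g))).1 *ᵥ jM L.K *ᵥ (L.φ ∘ v) = jM L.K *ᵥ (L.φ ∘ ((σ g).1 *ᵥ v)) := by
  have := congrArg tr (h.fr g)
  rw [map_mul, map_mul, tr_jG] at this
  rw [mulVec_mulVec, show (tr (σ _)).1 * jM _ = jM _ * (σ g).1.map L.φ from congrArg Units.val this,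
    ← mulVec_mulVec]
  exact congrArg _ (funext fun a => (RingHom.map_mulVec ..).symm)

theorem Rp.irr : Irr ((en ((Units.coeHom _).comp σ)).comp (BN.Fx L.T.σ).subtype) := by
  intro U hU
  have hU : ∀ g, L.T.σ g = g → ∀ v ∈ U, (σ g).1 *ᵥ v ∈ U := fun g e v hv => by
    simpa [en_apply] using hU ⟨g, e⟩ v hv
  obtain ⟨M, hM, hq⟩ := L.pow
  have q2 : 2 ≤ q := hq ▸ Nat.one_lt_pow hM.ne' (Fact.out : p.Prime).one_lt
  have : NeZero ((q + 1 : ℕ) : L.K) := ⟨by simp [L.cast_q]⟩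
  obtain ⟨ζ, hζ⟩ := HasEnoughRootsOfUnity.exists_primitiveRoot L.K (q + 1)
  have k : ∀ r s : Fin 72, (∀ t, L.T.σ (L.ρ.x r t) = L.ρ.x s (L.φ t)) → (∀ t, L.T.σ (L.ρ.x s t) = L.ρ.x r (L.φ t)) →
      (r = s ∨ ∀ t u, Commute (L.ρ.x r t) (L.ρ.x s u)) → ∀ v ∈ U, eF L.K r *ᵥ v ∈ U := by
    rintro r s h1 h2 (rfl | c) v hv
    · simpa [h.x, add_mulVec] using U.sub_mem (hU (L.ρ.x r 1) (by simp [h1]) v hv) hv
    have h3 : ∀ t u : L.K, L.φ t = u → L.φ u = t → t * u = 1 →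
        v + t • eF L.K r *ᵥ v + u • eF L.K s *ᵥ v + eF L.K r *ᵥ eF L.K s *ᵥ v ∈ U := fun t u a b d => by
      convert hU (L.ρ.x r t * L.ρ.x s u) (by rw [map_mul, h1, h2, a, b, (c t u).eq]) v hv using 1
      simp only [map_mul, Units.val_mul, h.x, ← mulVec_mulVec, add_mulVec, one_mulVec, mulVec_add, smul_mulVec,
        mulVec_smul, smul_smul, mul_comm u, d, one_smul, smul_add]
      abel
    have z0 := hζ.ne_zero (by omega)
    have a : L.φ ζ = ζ⁻¹ := by rw [L.φ_eq]; exact eq_inv_of_mul_eq_one_left (pow_succ ζ q ▸ hζ.pow_eq_one)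
    have b : L.φ ζ⁻¹ = ζ := by rw [map_inv₀, a, inv_inv]
    have n1 : ζ - 1 ≠ 0 := sub_ne_zero.2 (hζ.ne_one (by omega))
    have n2 : ζ ^ 2 - 1 ≠ 0 := sub_ne_zero.2 (hζ.pow_ne_one_of_pos_of_lt (by omega) (by omega))
    have e0 := h3 1 1 (map_one _) (map_one _) (mul_one _)
    have e1 := U.sub_mem (h3 _ _ a b (mul_inv_cancel₀ z0)) e0
    have e2 := U.sub_mem (h3 _ _ b a (inv_mul_cancel₀ z0)) e0
    convert U.smul_mem (ζ / ((ζ - 1) * (ζ ^ 2 - 1))) (U.add_mem (U.smul_mem ζ e1) e2) using 1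
    match_scalars <;> field_simp <;> ring
  have o : ∀ i, i = pE6 i ∨ cE6.simple i ≠ cE6.neg (cE6.simple (pE6 i)) ∧
      tabE6.code (cE6.simple (pE6 i)).1 (cE6.simple i).1 = 0 ∧ cE6.neg (cE6.simple i) ≠ cE6.simple (pE6 i) ∧
      tabE6.code (cE6.neg (cE6.simple (pE6 i))).1 (cE6.neg (cE6.simple i)).1 = 0 := by decide +kernel
  have pp : ∀ i, pE6 (pE6 i) = i := by decide
  have k2 : ∀ r, (∃ i, r = cE6.simple i ∨ r = cE6.neg (cE6.simple i)) → ∀ t, ∀ v ∈ U, (σ (L.ρ.x r t)).1 *ᵥ v ∈ U := by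
    intro r hr t v hv
    rw [h.x, add_mulVec, one_mulVec, smul_mulVec]
    refine U.add_mem hv (U.smul_mem _ ?_)
    obtain ⟨i, rfl | rfl⟩ := hr
    · exact k _ _ (L.gr.σ_pos i) (by simpa [pp] using L.gr.σ_pos (pE6 i)) ((o i).imp (congrArg _) fun e t u =>
        (L.ρ.commute_of_none e.1 (fun w hw => (Geom.E6.add_iff.1 hw).1 e.2.1) u t).symm) v hv
    · exact k _ _ (L.gr.σ_neg i) (by simpa [pp] using L.gr.σ_neg (pE6 i)) ((o i).imp (fun e => by rw [← e]) fun e t u =>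
        (L.ρ.commute_of_none (by simpa using e.2.2.1) (fun w hw => (Geom.E6.add_iff.1 hw).1 e.2.2.2) u t).symm) v hv
  refine irr_N (en ((Units.coeHom _).comp σ)) (fun s => ⟨L.ρ.x s 1, fun v => by simp [en_apply, h.x]⟩) U
    fun g v hv => ?_
  have : g ∈ Subgroup.closure _ := (L.ρ.U_simple.trans L.h.top).ge trivial
  rw [en_apply]
  change (σ g).1 *ᵥ v ∈ U
  induction this using Subgroup.closure_induction_left with
  | one => simpa using hv
  | mul_left x hx y _ ih =>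
    obtain ⟨r, hr, t, rfl⟩ := hx
    rw [map_mul, Units.val_mul, ← mulVec_mulVec]
    exact k2 r hr t _ ih
  | inv_mul_cancel x hx y _ ih =>
    obtain ⟨r, hr, t, rfl⟩ := hx
    rw [map_mul, Units.val_mul, ← mulVec_mulVec, ← PreSt.x_neg]
    exact k2 r hr _ _ ih

end CF.An.R0
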