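import Cfsg.Agent.An.ST
import Cfsg.Agent.Am.WP

/-! Totally white submodules and tori, twisted case. -/

set_option autoImplicit false

namespace CF.An

open Module Function Cfsg.Lie CF.E83 CF.Al CF.Am CF.Chev CF.BN CF.ExA Matrix

variable {p q z : ℕ} [Fact p.Prime] {X : Type*} [Group X] [Finite X] {L : LS cE6 pE6 p q z X}
  {R R' : L.G →* End L.K (N L.K)} {ε : ℤ} {H : Subgroup X} (hz : z = Nat.gcd 3 (q + 1))
include hz

theorem wp_of {n : ℕ} (h5 : 5 ≤ n) {j : An n →* X} (M : Mx H j) {j' : An n →* Yg L}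
    (hj : ∀ g, L.θ (j' g) = j g) (S : Sd L R R' ε) {I : Type} [Finite I] {g : L.G}
    {c : I → Fin 6 → L.Kˣ} {Q : I → An n} (hQ : ∀ i, (j' (Q i)).1 = tc L g (c i)) {k : ℕ}
    {y : Fin k → Fin 6 → ℤ} (hy : LinearIndependent ℤ y)
    (h2 : ∀ j r, (∀ i, rv cE6 (c i) r = 1) → pr cE6 (y j) (cE6.vec r) = 0)
    (sp : ∀ y' : Fin 6 → ℤ, (∀ r, (∀ i, rv cE6 (c i) r = 1) → pr cE6 y' (cE6.vec r) = 0) →
      ∃ a : Fin k → ℤ, (3 : ℤ) • y' = ∑ j, a j • y j)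
    (pu : ∀ v, sh v = 0 → (∀ i, ∃ μ : L.K, R (L.h.r3.tor (c i)) v = μ • v) → ∀ j (t : L.Kˣ),
      ∃ μ : L.K, R (L.h.r3.tor fun a => t ^ y j a) v = μ • v)
    (sm : ∀ T ≤ H, (∀ s ∈ T, ∀ i, Commute s (j (Q i))) → ¬ Tk q z k T) :
    WP ((rY L R).comp j') := by
  intro U hU U1 W0 le sb tw
  by_contra W1
  have c1 := can_N hz h5 M hj hU
  let P : Set (Submodule L.K (N L.K)) := {W | W ≤ U ∧ Sb ((rY L R).comp j') W ∧ TW W}
  have ind : ∀ F : N L.K →+ N L.K, (∀ W ∈ P, ∃ W' ∈ P, ∀ v ∈ W, F v ∈ W') → ∀ v ∈ sSup P, F v ∈ sSup P :=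
    fun F h v hv => Submodule.iSup_induction (fun W : P => W.1) (motive := fun v => F v ∈ sSup P)
      (by rwa [← sSup_eq_iSup']) (fun W v hv => let ⟨_, a, b⟩ := h W W.2; (le_sSup a : _ ≤ sSup P) (b v hv)) (by simp)
      fun a b ha hb => by rw [map_add]; exact add_mem ha hb
  have mm : ∀ a b v, R a (R b v) = R (a * b) v := fun a b v => by rw [map_mul, End.mul_apply]
  have : Finite (Yg L) := L.frob.finite
  refine (no_torN hz M S (U := sSup P)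
    (fun e => W1 (eq_bot_iff.2 (e ▸ le_sSup ⟨le, sb, tw⟩)))
    (fun e => U1 (eq_top_iff.2 (e ▸ sSup_le fun _ h => h.1)))
    (fun y hy => ind (R y).toAddMonoidHom fun W hW => ⟨W.map (R y), ⟨?_, ?_, ?_⟩, fun v hv => ⟨v, hv, rfl⟩⟩)
    hQ hy h2 sp
    (fun i t => ind (R _).toAddMonoidHom fun W hW => ⟨W, hW, fun v hv => ?_⟩)).elim
    fun T ⟨t1, t2, t3⟩ => sm T t1 (fun s hs i => hj _ ▸ t3 s hs i) t2.toTk
  · rintro _ ⟨v, hv, rfl⟩
    exact c1 y hy v (hW.1 hv)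
  · rintro a _ ⟨v, hv, rfl⟩
    obtain ⟨α, hα⟩ := norm_lift (ce L hz) h5 M hj hy
    refine ⟨_, hW.2.1 (α⁻¹ a) v hv, ?_⟩
    have := congrArg (fun x : Yg L => R x v) (hα (α⁻¹ a))
    simpa [← mm] using this
  · rintro _ ⟨v, hv, rfl⟩
    rw [(S.jp _).s1, hW.2.2 v hv, map_zero]
  · obtain ⟨u, hu, e⟩ := WP.eig (fun i => S.tor (c i)) (W := W.map (R g⁻¹)) (T := R (L.h.r3.tor fun a => t ^ y i a))
      (fun i _ ⟨u, hu, e⟩ => ⟨_, hW.2.1 (Q i) u hu, by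
        change R g⁻¹ (R (j' (Q i)).1 u) = _
        rw [← e, hQ, mm, mm, ← mul_assoc, ← mul_assoc, inv_mul_cancel, one_mul]⟩)
      (fun u hu h => by
        obtain ⟨m, hm⟩ := pu u (by obtain ⟨u, hu, rfl⟩ := hu; rw [(S.jp _).s1, hW.2.2 u hu, map_zero]) h i t
        exact hm ▸ Submodule.smul_mem _ _ hu) _ ⟨v, hv, rfl⟩
    have : R (tc L g fun a => t ^ y i a) v = u := by
      rw [← mm, ← mm, ← e, mm, mul_inv_cancel, map_one, End.one_apply]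
    exact this ▸ hu

end CF.An
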